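import Cfsg.Agent.H2.GolayEv
import Cfsg.Agent.H516.TwoFrame
import Cfsg.Agent.J4Type.Aut22
import Cfsg.Agent.SmallSimple.SylowCount

/-!
# `NXC` for `M22` (S4094/S3842, the prime 2)

Every automorphism of `M22` is the conjugation by a permutation of the 24 points, so the subgroups
`HH T n` (the elements preserving the set of the points with `T`-orbit of length at most `n`) are invariant.
For `n = 2`, `4` they are the stabilizers of a duad and of a hexad.
-/

set_option autoImplicit false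
set_option maxRecDepth 100000

namespace Cfsg.Agent.H767.NX.M22

open Cfsg Subgroup Cfsg.Agent.GH.Pc Cfsg.Agent.SporadicA.GolayBase Cfsg.Agent.SporadicA.GolayPerm
open Cfsg.Agent.SporadicStructure.M24El Cfsg.Agent.H2.WM Cfsg.Agent.H2.GolayEv
open Cfsg.Agent.H516.Two

/-- a polycyclic series of a Sylow 2-subgroup, two elements of the hexad stabilizer, one of the duad stabilizer -/
def gl : List ℕ := [976990105829392847739289005721748544, 984724508489452699215480746259449888,
  984202951082164080105044112956360736, 965128854020860192151391391390468128, 979121071158219704299181131031480352,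
  972512676110088067912772961567868960, 976448692869377735270425038196672544, 976768299277413956938701513523627072,
  965010690152576531343407554825849280, 970254902120350598020240965873371168]

theorem gl_ok : ∀ P ∈ gl, fx P = true := by decide +kernel

def P : Pres 7 where
  sq _ := []
  cj i j := match i.val, j.val with
    | 0, 1 => [1, 2]
    | 0, 3 => [3, 4, 5, 6]
    | 0, 4 => [4, 6]
    | 0, 5 => [5, 6]
    | 1, 3 => [3, 5, 6]
    | 1, 4 => [4, 5]
    | 2, 3 => [3, 5]
    | 2, 4 => [4, 6]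
    | _, _ => [j]

theorem P_ok : P.Ok := by decide

def tw (i : Fin 7) : List ℕ := [i.val]

/-- the `T`-orbit of `p` has at most `n` elements -/
def Sz (T : Subgroup Spor.M22) (n : ℕ) (p : GolayPt) : Prop :=
  ∃ q : Fin n → GolayPt, ∀ t ∈ T, ∃ i, (t : Equiv.Perm GolayPt) p = q i

theorem Sz.conj {T : Subgroup Spor.M22} {n : ℕ} {d : Equiv.Perm GolayPt}
    (hd : ∀ t ∈ T, ∃ s ∈ T, (s : Equiv.Perm GolayPt) = d⁻¹ * t * d) {p : GolayPt} (h : Sz T n p) : Sz T n (d p) := by
  obtain ⟨q, hq⟩ := h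
  refine ⟨fun i => d (q i), fun t ht => ?_⟩
  obtain ⟨s, hs, e⟩ := hd t ht
  obtain ⟨i, hi⟩ := hq s hs
  refine ⟨i, ?_⟩
  show (t : Equiv.Perm GolayPt) (d p) = d (q i)
  rw [← hi, e, Equiv.Perm.mul_apply, Equiv.Perm.mul_apply, ← Equiv.Perm.mul_apply d, mul_inv_cancel]
  rfl

/-- the stabilizer of the set of the points with short orbits -/
def HH (T : Subgroup Spor.M22) (n : ℕ) : Subgroup Spor.M22 where
  carrier := {g | ∀ p, Sz T n p ↔ Sz T n ((g : Equiv.Perm GolayPt) p)}
  one_mem' := fun p => Iff.rfl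
  mul_mem' := by
    intro a b ha hb p
    exact (hb p).trans (ha _)
  inv_mem' := by
    intro a ha p
    have h1 := ha (((a⁻¹ : Spor.M22) : Equiv.Perm GolayPt) p)
    have h2 : (a : Equiv.Perm GolayPt) (((a⁻¹ : Spor.M22) : Equiv.Perm GolayPt) p) = p := by
      rw [← Equiv.Perm.mul_apply, ← Subgroup.coe_mul, mul_inv_cancel]
      rfl
    rw [h2] at h1
    exact h1.symm

theorem mem_HH {T : Subgroup Spor.M22} {n : ℕ} {g : Spor.M22} :
    g ∈ HH T n ↔ ∀ p, Sz T n p ↔ Sz T n ((g : Equiv.Perm GolayPt) p) := Iff.rfl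

theorem inv_HH (T : Subgroup Spor.M22) (n : ℕ) : Inv T (HH T n) := by
  refine map_le_of_inv fun α hα y hy => ?_
  obtain ⟨d, -, hd⟩ := Cfsg.Agent.J4Type.Aut22.exists_conj α
  have hα' := symm_map hα
  have h1 : ∀ t ∈ T, ∃ s ∈ T, (s : Equiv.Perm GolayPt) = d⁻¹ * t * d := by
    intro t ht
    refine ⟨α⁻¹ t, (mem_of_map hα').2 ht, ?_⟩
    have h2 := hd (α⁻¹ t)
    have h3 : α (α⁻¹ t) = t := MulAut.apply_inv_self _ _ _
    change ((α (α⁻¹ t) : Spor.M22) : Equiv.Perm GolayPt) = _ at h2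
    rw [h3] at h2
    rw [h2]; group
  have h2 : ∀ t ∈ T, ∃ s ∈ T, (s : Equiv.Perm GolayPt) = d⁻¹⁻¹ * t * d⁻¹ := by
    intro t ht
    refine ⟨α t, (mem_of_map hα).2 ht, ?_⟩
    rw [inv_inv]
    exact hd t
  have h3 : ∀ p, Sz T n p ↔ Sz T n (d p) := by
    intro p
    refine ⟨fun h => h.conj h1, fun h => ?_⟩
    have := h.conj h2
    rwa [← Equiv.Perm.mul_apply, inv_mul_cancel] at this
  rw [mem_HH] at hy ⊢
  intro p
  have e : ((α y : Spor.M22) : Equiv.Perm GolayPt) p = d ((y : Equiv.Perm GolayPt) (d⁻¹ p)) := by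
    rw [show ((α y : Spor.M22) : Equiv.Perm GolayPt) = d * y * d⁻¹ from hd y]
    rfl
  have e2 : d (d⁻¹ p) = p := by
    rw [← Equiv.Perm.mul_apply, mul_inv_cancel]
    rfl
  rw [e]
  have h4 := h3 (d⁻¹ p)
  rw [e2] at h4
  exact h4.symm.trans ((hy _).trans (h3 _))

theorem le_HH (T : Subgroup Spor.M22) (n : ℕ) : T ≤ HH T n := by
  intro t ht
  rw [mem_HH]
  intro p
  constructor
  · rintro ⟨q, hq⟩
    refine ⟨q, fun s hs => ?_⟩
    obtain ⟨i, hi⟩ := hq (s * t) (mul_mem hs ht)
    exact ⟨i, hi⟩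
  · rintro ⟨q, hq⟩
    refine ⟨q, fun s hs => ?_⟩
    obtain ⟨i, hi⟩ := hq (s * t⁻¹) (mul_mem hs (inv_mem ht))
    refine ⟨i, ?_⟩
    rw [← hi, ← Equiv.Perm.mul_apply, ← Subgroup.coe_mul, inv_mul_cancel_right]

/-- the word model -/
noncomputable abbrev W : Ev Spor.M22 (eqG gl) := ev22 gl_ok

theorem idx_W (w : List ℕ) (p : GolayPt) :
    idx ((W.E w : Equiv.Perm GolayPt) p) = papp (prodW gl w) (idx p) :=
  idx_el_smul (ok_prodW (fun P hP => ok_of_fx (gl_ok P hP)) w) p

theorem not_Sz {T : Subgroup Spor.M22} {n : ℕ} {p : GolayPt} (w : Fin (n + 1) → List ℕ)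
    (hw : ∀ i, W.E (w i) ∈ T) (h : Function.Injective fun i => papp (prodW gl (w i)) (idx p)) : ¬ Sz T n p := by
  rintro ⟨q, hq⟩
  choose f hf using fun i => hq _ (hw i)
  have h1 : Function.Injective f := by
    intro i j hij
    apply h
    show papp _ _ = papp _ _
    rw [← idx_W, ← idx_W, hf, hf, hij]
  have := Fintype.card_le_of_injective f h1
  simp at this

/-- stability of a list of indices under a word -/
def stab (l : List ℕ) (w : List ℕ) : Bool :=
  (List.range 24).all fun i => (l.contains (papp (prodW gl w) i)) == (l.contains i)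

theorem stab_iff {l w : List ℕ} (h : stab l w = true) (p : GolayPt) :
    idx ((W.E w : Equiv.Perm GolayPt) p) ∈ l ↔ idx p ∈ l := by
  unfold stab at h
  rw [List.all_eq_true] at h
  have h1 := h (idx p) (List.mem_range.2 (idx_lt p))
  rw [idx_W]
  rw [beq_iff_eq] at h1
  rw [← List.contains_iff_mem, ← List.contains_iff_mem, h1]

/-- the points with index in a list of length at most `n`, stable under `T` -/
theorem Sz_of_stab {T : Subgroup Spor.M22} (hT : T = Subgroup.closure (Set.range fun i => W.E (tw i))) {n : ℕ}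
    (l : List ℕ) (hl : l.length = n) (hst : ∀ i : Fin 7, stab l (tw i) = true) {p : GolayPt} (hp : idx p ∈ l) :
    Sz T n p := by
  subst hl
  refine ⟨fun i => pt (l.get i), fun t ht => ?_⟩
  have h1 : ∀ q, idx ((t : Equiv.Perm GolayPt) q) ∈ l ↔ idx q ∈ l := by
    rw [hT] at ht
    induction ht using Subgroup.closure_induction with
    | mem x hx =>
      obtain ⟨i, rfl⟩ := hx
      exact stab_iff (hst i)
    | one => intro q; rfl
    | mul x y _ _ hx hy => intro q; exact (hx _).trans (hy q)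
    | inv x _ hx =>
      intro q
      have h2 := hx (((x⁻¹ : Spor.M22) : Equiv.Perm GolayPt) q)
      have h3 : (x : Equiv.Perm GolayPt) (((x⁻¹ : Spor.M22) : Equiv.Perm GolayPt) q) = q := by
        rw [← Equiv.Perm.mul_apply, ← Subgroup.coe_mul, mul_inv_cancel]
        rfl
      rw [h3] at h2
      exact h2.symm
  obtain ⟨i, hi⟩ := List.get_of_mem ((h1 p).2 hp)
  refine ⟨i, ?_⟩
  show _ = pt (l.get i)
  rw [hi]
  exact (pt_idx _).symm

/-- the octad -/
def oct : List ℕ := [0, 1, 2, 3, 5, 14, 17, 23]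

/-- the duad with the base points -/
def duad : List ℕ := [0, 1, 2, 23]

def w5 : Fin 5 → List ℕ := ![[], [3], [4], [5], [6]]
def w3 : Fin 3 → List ℕ := ![[], [3], [4]]
def w3' : Fin 3 → List ℕ := ![[], [1], [2]]

theorem w5_inj : ∀ i < 24, i ∉ oct → Function.Injective fun j => papp (prodW gl (w5 j)) i := by decide +kernel

theorem w3_inj : ∀ i < 24, i ∉ oct → Function.Injective fun j => papp (prodW gl (w3 j)) i := by decide +kernel

theorem w3'_inj : ∀ i < 24, i ∈ oct → i ∉ duad → Function.Injective fun j => papp (prodW gl (w3' j)) i := by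
  decide +kernel

variable {T : Subgroup Spor.M22} (hT : T = Subgroup.closure (Set.range fun i => W.E (tw i)))
include hT

theorem mem_T (i : Fin 7) : W.E (tw i) ∈ T := by
  rw [hT]; exact subset_closure ⟨i, rfl⟩

theorem Sz_mono {n m : ℕ} (h : n ≤ m) {p : GolayPt} (hs : Sz T n p) : Sz T m p := by
  obtain ⟨q, hq⟩ := hs
  have hn : 0 < n := by
    obtain ⟨i, -⟩ := hq 1 (one_mem _)
    exact i.pos
  refine ⟨fun j => if h : j.val < n then q ⟨j.val, h⟩ else q ⟨0, hn⟩, fun t ht => ?_⟩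
  obtain ⟨i, hi⟩ := hq t ht
  refine ⟨⟨i, i.2.trans_le h⟩, ?_⟩
  show (t : Equiv.Perm GolayPt) p = if h : (i : ℕ) < n then q ⟨i, h⟩ else q ⟨0, hn⟩
  rw [dif_pos i.2]
  exact hi

theorem Sz_four (p : GolayPt) : Sz T 4 p ↔ idx p ∈ oct := by
  constructor
  · intro h
    by_contra hp
    refine not_Sz w5 ?_ (w5_inj _ (idx_lt p) hp) h
    intro i
    fin_cases i
    · show W.E [] ∈ T
      rw [W.nil]; exact one_mem _
    · exact mem_T hT 3
    · exact mem_T hT 4
    · exact mem_T hT 5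
    · exact mem_T hT 6
  · intro h
    have h1 : idx p ∈ [0] ∨ idx p ∈ [23] ∨ idx p ∈ [1, 2] ∨ idx p ∈ [3, 5, 14, 17] := by
      simp only [oct, List.mem_cons, List.not_mem_nil, or_false] at h ⊢
      omega
    rcases h1 with h1 | h1 | h1 | h1
    · exact Sz_mono hT (by norm_num) (Sz_of_stab hT [0] rfl (by decide +kernel) h1)
    · exact Sz_mono hT (by norm_num) (Sz_of_stab hT [23] rfl (by decide +kernel) h1)
    · exact Sz_mono hT (by norm_num) (Sz_of_stab hT [1, 2] rfl (by decide +kernel) h1)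
    · exact Sz_mono hT (by norm_num) (Sz_of_stab hT [3, 5, 14, 17] rfl (by decide +kernel) h1)

theorem Sz_two (p : GolayPt) : Sz T 2 p ↔ idx p ∈ duad := by
  constructor
  · intro h
    by_contra hp
    by_cases hp' : idx p ∈ oct
    · refine not_Sz w3' ?_ (w3'_inj _ (idx_lt p) hp' hp) h
      intro i
      fin_cases i
      · show W.E [] ∈ T
        rw [W.nil]; exact one_mem _
      · exact mem_T hT 1
      · exact mem_T hT 2
    · refine not_Sz w3 ?_ (w3_inj _ (idx_lt p) hp') h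
      intro i
      fin_cases i
      · show W.E [] ∈ T
        rw [W.nil]; exact one_mem _
      · exact mem_T hT 3
      · exact mem_T hT 4
  · intro h
    have h1 : idx p ∈ [0] ∨ idx p ∈ [23] ∨ idx p ∈ [1, 2] := by
      simp only [duad, List.mem_cons, List.not_mem_nil, or_false] at h ⊢
      omega
    rcases h1 with h1 | h1 | h1
    · exact Sz_mono hT (by norm_num) (Sz_of_stab hT [0] rfl (by decide +kernel) h1)
    · exact Sz_mono hT (by norm_num) (Sz_of_stab hT [23] rfl (by decide +kernel) h1)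
    · exact Sz_mono hT (by norm_num) (Sz_of_stab hT [1, 2] rfl (by decide +kernel) h1)

theorem mem_four {w : List ℕ} (h : stab oct w = true) : W.E w ∈ HH T 4 := by
  rw [mem_HH]
  intro p
  rw [Sz_four hT, Sz_four hT]
  exact (stab_iff h p).symm

theorem mem_two {w : List ℕ} (h : stab duad w = true) : W.E w ∈ HH T 2 := by
  rw [mem_HH]
  intro p
  rw [Sz_two hT, Sz_two hT]
  exact (stab_iff h p).symm

theorem four_ne_top : HH T 4 ≠ ⊤ := by
  intro h
  have h1 : W.E [9] ∈ HH T 4 := by rw [h]; trivial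
  have h2 : ∀ i < 24, (papp (prodW gl [9]) i ∈ oct ↔ i ∈ oct) → i ≠ 3 ∧ i ≠ 5 ∧ i ≠ 14 ∧ i ≠ 17 := by decide +kernel
  have h3 := (h1 (pt 3))
  rw [Sz_four hT, Sz_four hT, idx_W, idx_pt (by norm_num)] at h3
  exact (h2 3 (by norm_num) h3.symm).1 rfl

theorem two_ne_top : HH T 2 ≠ ⊤ := by
  intro h
  have h1 : W.E [8] ∈ HH T 2 := by rw [h]; trivial
  have h3 := (h1 (pt 1))
  rw [Sz_two hT, Sz_two hT, idx_W, idx_pt (by norm_num)] at h3
  exact absurd (h3.1 (by decide)) (by decide +kernel)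

theorem T_ne_bot : T ≠ ⊥ := by
  intro h
  have h1 := mem_T hT 3
  rw [h, mem_bot, ← W.nil] at h1
  exact W.ne_of _ _ (by decide +kernel) h1

end Cfsg.Agent.H767.NX.M22

namespace Cfsg.Agent.H767.NX.M22

open Cfsg Subgroup Cfsg.Agent.GH.Pc Cfsg.Agent.SporadicA.GolayBase Cfsg.Agent.SporadicA.GolayPerm
open Cfsg.Agent.SporadicStructure.M24El Cfsg.Agent.H2.WM Cfsg.Agent.H2.GolayEv
open Cfsg.Agent.H516.Two

theorem dvd_of_pow {w : List ℕ} {Y : Subgroup Spor.M22} (hw : W.E w ∈ Y) {r : ℕ} (hr : r.Prime)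
    (h1 : eqG gl (List.replicate r w).flatten [] = true) (h2 : eqG gl w [] = false) : r ∣ Nat.card Y := by
  have hf : Fact r.Prime := ⟨hr⟩
  have h3 : (⟨W.E w, hw⟩ : Y) ^ r = 1 := by
    apply Subtype.ext
    show W.E w ^ r = 1
    rw [← W.rep, W.eq_of _ _ h1, W.nil]
  have h4 : (⟨W.E w, hw⟩ : Y) ≠ 1 := by
    intro h
    apply W.ne_of _ _ h2
    rw [W.nil]
    exact congrArg Subtype.val h
  rw [← orderOf_eq_prime h3 h4]
  exact orderOf_dvd_natCard _

theorem nxc_model : NXC Spor.M22 := by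
  have hs := Cfsg.Agent.SporadicA.MathieuRecog.simple_M22
  have h2p : Fact (Nat.Prime 2) := ⟨Nat.prime_two⟩
  obtain ⟨T, hT⟩ := W.exists_T P_ok tw (by decide +kernel) (by decide +kernel) (by decide +kernel)
    (by rw [Cfsg.Agent.SporadicA.MathieuRecog.card_M22]; decide)
  have hT' : (T : Subgroup Spor.M22) = Subgroup.closure (Set.range fun i => W.E (tw i)) := hT
  refine ⟨T, fun Y hY => ?_⟩
  have hne : ∀ n, HH (T : Subgroup Spor.M22) n ≠ ⊥ := by
    intro n h
    have h1 := le_HH (T : Subgroup Spor.M22) n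
    rw [h] at h1
    exact T_ne_bot hT' (le_bot_iff.1 h1)
  have h4 := le_normalizer.trans (hY _ (hne 4) (four_ne_top hT') (inv_HH _ 4))
  have h2 := le_normalizer.trans (hY _ (hne 2) (two_ne_top hT') (inv_HH _ 2))
  have hTY : (T : Subgroup Spor.M22) ≤ Y := (le_HH _ 4).trans h4
  have m0 : W.E [0] ∈ Y := hTY (mem_T hT' 0)
  have m1 : W.E [1] ∈ Y := hTY (mem_T hT' 1)
  have m2 : W.E [2] ∈ Y := hTY (mem_T hT' 2)
  have m8 : W.E [8] ∈ Y := h4 (mem_four hT' (by decide +kernel))
  have m9 : W.E [9] ∈ Y := h2 (mem_two hT' (by decide +kernel))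
  have happ : ∀ {u v : List ℕ}, W.E u ∈ Y → W.E v ∈ Y → W.E (u ++ v) ∈ Y := by
    intro u v hu hv
    rw [W.app]; exact mul_mem hu hv
  have c5 : 5 ∣ Nat.card Y := dvd_of_pow (happ (happ m0 m2) m8) (by norm_num) (by decide +kernel) (by decide +kernel)
  have c11 : 11 ∣ Nat.card Y := dvd_of_pow (happ (happ m0 m8) m9) (by norm_num) (by decide +kernel) (by decide +kernel)
  have c7 : 7 ∣ Nat.card Y := dvd_of_pow (happ (happ m1 m9) m8) (by norm_num) (by decide +kernel) (by decide +kernel)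
  have c2 : 2 ^ 7 ∣ Nat.card Y := by
    have h5 : Nat.card (T : Subgroup Spor.M22) = 2 ^ 7 := by
      rw [T.card_eq_multiplicity, Cfsg.Agent.SporadicA.MathieuRecog.card_M22]
      congr 1
      rw [show (443520 : ℕ) = 2 ^ 7 * 3465 from rfl,
        Nat.factorization_mul (by norm_num) (by norm_num), Nat.Prime.factorization_pow Nat.prime_two]
      simp only [Finsupp.coe_add, Pi.add_apply, Finsupp.single_eq_same]
      rw [Nat.factorization_eq_zero_of_not_dvd (by norm_num)]
    rw [← h5]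
    exact Subgroup.card_dvd_of_le hTY
  have hcard : 2 ^ 7 * (5 * (7 * 11)) ∣ Nat.card Y := by
    refine Nat.Coprime.mul_dvd_of_dvd_of_dvd (by norm_num) c2 ?_
    refine Nat.Coprime.mul_dvd_of_dvd_of_dvd (by norm_num) c5 ?_
    exact Nat.Coprime.mul_dvd_of_dvd_of_dvd (by norm_num) c7 c11
  by_contra hYt
  have h5 := Cfsg.Agent.SmallSimple.SylowCount.card_dvd_factorial_index Y hYt
  have h6 := Subgroup.card_mul_index Y
  rw [Cfsg.Agent.SporadicA.MathieuRecog.card_M22] at h5 h6
  obtain ⟨k, hk⟩ := hcard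
  rw [hk] at h6
  have h7 : k * Y.index = 9 := by
    have : 2 ^ 7 * (5 * (7 * 11)) * (k * Y.index) = 2 ^ 7 * (5 * (7 * 11)) * 9 := by
      rw [← mul_assoc, h6]
      norm_num
    exact Nat.eq_of_mul_eq_mul_left (by norm_num) this
  have h8 : Y.index ∣ 9 := ⟨k, by rw [mul_comm]; exact h7.symm⟩
  have h9 : Y.index ≤ 9 := Nat.le_of_dvd (by norm_num) h8
  have h10 := Nat.le_of_dvd (Nat.factorial_pos _) h5
  have h11 := Nat.factorial_le h9
  have h12 : Nat.factorial 9 = 362880 := rfl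
  omega

/-- **`NXC` for `M22`.** -/
theorem nxc {S : Type*} [Group S] [Finite S] (h : Spor.IsoM22 S) : NXC S := by
  obtain ⟨e⟩ := h
  exact nxc_model.congr e.symm

end Cfsg.Agent.H767.NX.M22
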